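import Cfsg.Agent.H424.EPX.Par
import Cfsg.Agent.H470.EPO.GSide

/-!
# The canonical parabolic subgroup in `²F₄(q)` (helper424, for S5745, own characteristic)

* `V_max_pp` : `O_2(P) = V`;
* `exists_type` : all automorphisms are type preserving;
* `canon_pp` : a proper subgroup `K` containing a conjugate of some `V` lies in a proper parabolic subgroup fixed by all
  automorphisms fixing `K`.  (No Borel–Tits.)
-/

set_option autoImplicit false
set_option linter.unusedSectionVars false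

namespace Cfsg.Agent.H424.EPX

open Cfsg.Agent.KFacts.TwF4 Cfsg.Agent.KFacts.TwF4.Full Cfsg.Agent.KFacts.TwF4.Arc
open Cfsg.Agent.KFacts.TwF4.Inv Cfsg.Agent.KFacts.TwF4.SylU
open Cfsg.Agent.SplitTwo Cfsg.Agent.SplitTwo.ZS Cfsg.Agent.TitsThree.RankTwoZ
open Cfsg.Agent.SplitTwo.RootSysZ Subgroup Cfsg Cfsg.Agent.H248.TwF4Over
open Cfsg.Agent.H284

universe u

variable {F : Type*} [Field F] {σ : F →+* F} {G : Type u} [Group G] (S : Full σ G) [Finite F] [Finite G]
  (hF : ∃ c : Fˣ, c ≠ 1) (hR : S.R.p = 2)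

include hF hR

theorem U_two : IsPGroup 2 (J S.XZ 1 8) := by
  obtain ⟨P, hP⟩ := exists_sylow S hF hR
  rw [← hP]
  exact P.2

theorem Vv_two (o : Option Bool) : IsPGroup 2 (Vv S o) := (U_two S hF hR).to_le (Vv_le_U S o)

theorem U_max' {D : Subgroup G} (h1 : J S.XZ 1 8 ≤ D) (h2 : IsPGroup 2 D) : D = J S.XZ 1 8 := by
  obtain ⟨P, hP⟩ := exists_sylow S hF hR
  rw [← hP] at h1 ⊢
  exact P.3 h2 h1

/-- every 2-subgroup is conjugate into `U` -/
theorem exists_cj_U {D : Subgroup G} (h : IsPGroup 2 D) : ∃ x : G, D ≤ cj x (J S.XZ 1 8) := by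
  have hfact : Fact (Nat.Prime 2) := ⟨Nat.prime_two⟩
  obtain ⟨P, hP⟩ := exists_sylow S hF hR
  obtain ⟨P', hP'⟩ := h.exists_le_sylow
  obtain ⟨k, hk⟩ := MulAction.exists_smul_eq G P P'
  refine ⟨k, hP'.trans ?_⟩
  rw [← hP, ← hk]
  exact le_rfl

theorem norm_U' : normalizer (J S.XZ 1 8 : Set G) = Pp S none := by
  apply le_antisymm
  · intro g hg
    obtain ⟨b, hb, t, ht, rfl⟩ := norm_U S hF hR (g := g) fun x => mem_normalizer_iff.1 hg x
    exact mul_mem (U_le_Pp S none hb) (T_le_Pp S none ht)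
  · exact Pp_le_norm S none

/-- a 2-subgroup normalised by `U` lies in `U` -/
theorem le_U_of {D : Subgroup G} (hD : IsPGroup 2 D) (hn : ∀ u ∈ J S.XZ 1 8, ∀ d ∈ D, u * d * u⁻¹ ∈ D) :
    D ≤ J S.XZ 1 8 := by
  have h1 : J S.XZ 1 8 ≤ normalizer (D : Set G) := fun u hu => mem_norm_of fun d hd => hn u hu d hd
  have h2 : IsPGroup 2 (J S.XZ 1 8 ⊔ D : Subgroup G) := (U_two S hF hR).to_sup_of_normal_right' hD h1
  rw [← U_max' S hF hR le_sup_left h2]
  exact le_sup_right

theorem V_max_pp {o : Option Bool} {D : Subgroup G} (hD : IsPGroup 2 D)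
    (hn : ∀ g ∈ Pp S o, ∀ d ∈ D, g * d * g⁻¹ ∈ D) : D ≤ Vv S o := by
  have hU := le_U_of S hF hR hD fun u hu => hn u (U_le_Pp S o hu)
  rcases o with _ | _ | _
  · exact hU
  · exact fun x hx => H371.PU.J17_of_n2 S (hU hx) (hU (hn _ (n2_mem_P S) x hx))
  · exact fun x hx => H371.PU.J28_of_n1 S (hU hx) (hU (hn _ (n1_mem_P S) x hx))

theorem top_max {D : Subgroup G} (hD : IsPGroup 2 D) (hn : ∀ g : G, ∀ d ∈ D, g * d * g⁻¹ ∈ D) : D = ⊥ :=
  H371.PU.bot_of_inv S (le_U_of S hF hR hD fun u _ => hn u) (hn _) (hn _)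

omit [Finite F] [Finite G] hF hR S in
theorem norm_map (φ : MulAut G) (A : Subgroup G) : (normalizer (A : Set G)).map φ.toMonoidHom =
    normalizer ((A.map φ.toMonoidHom : Subgroup G) : Set G) := by
  have := Subgroup.map_equiv_normalizer_eq A (φ : G ≃* G)
  exact this

omit [Finite F] [Finite G] hF hR S in
theorem norm_cj (x : G) (A : Subgroup G) : cj x (normalizer (A : Set G)) = normalizer (cj x A : Set G) :=
  norm_map (MulAut.conj x) A

omit [Finite F] [Finite G] hF hR S in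
theorem map_cj (φ : MulAut G) (x : G) (A : Subgroup G) : (cj x A).map φ.toMonoidHom = cj (φ x) (A.map φ.toMonoidHom) := by
  show (A.map _).map _ = (A.map _).map _
  rw [Subgroup.map_map, Subgroup.map_map]
  congr 1
  ext k
  show φ (x * k * x⁻¹) = φ x * φ k * (φ x)⁻¹
  rw [map_mul, map_mul, map_inv]

/-- an automorphism fixing `U` fixes all the `V` -/
theorem Vv_of_U {ψ : MulAut G} (hU : (J S.XZ 1 8).map ψ.toMonoidHom = J S.XZ 1 8) (o : Option Bool) :
    (Vv S o).map ψ.toMonoidHom = Vv S o := by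
  have hU' : ∀ x, ψ x ∈ J S.XZ 1 8 ↔ x ∈ J S.XZ 1 8 := by
    intro x
    constructor
    · intro hx
      rw [← hU] at hx
      obtain ⟨y, hy, e⟩ := hx
      rwa [ψ.injective e] at hy
    · intro hx
      rw [← hU]
      exact ⟨x, hx, rfl⟩
  have h28 : (J S.XZ 2 8).map ψ.toMonoidHom = J S.XZ 2 8 := by
    apply Subgroup.eq_of_le_of_card_ge
    · rintro _ ⟨x, hx, rfl⟩
      exact (KFacts.TwF4.AutNorm.J28_of_U hU' x).2 hx
    · exact (Subgroup.card_map_of_injective ψ.injective).ge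
  rcases o with _ | _ | _
  · exact hU
  · -- `ψ P₂ = P₂`
    have hB : (Pp S none).map ψ.toMonoidHom = Pp S none := by
      rw [← norm_U' S hF hR, norm_map, hU]
    have hP1 : (Pp S (some true)).map ψ.toMonoidHom = Pp S (some true) := by
      show (normalizer (J S.XZ 2 8 : Set G)).map _ = normalizer (J S.XZ 2 8 : Set G)
      rw [norm_map, h28]
    have hinj : Function.Injective (Subgroup.map ψ.toMonoidHom) := Subgroup.map_injective ψ.injective
    have hne : ∀ o o' : Option Bool, Pp S o = Pp S o' → o = o' := by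
      have e1 : ∀ o o' : Option Bool, Pp S o ≤ Pp S o' → arcP o ⊆ arcP o' := by
        intro o o' h i hi
        apply mem_arcP S
        refine le_trans ?_ h
        have hc : ∀ i : ZMod (2 * 8), ∀ o, i ∈ arcP o → (1 ≤ i.val ∧ i.val ≤ 8) ∨ (i = 9 ∧ o = some true) ∨
            (i = 0 ∧ o = some false) := by decide
        rcases hc i o hi with ⟨h1, h2⟩ | ⟨rfl, rfl⟩ | ⟨rfl, rfl⟩
        · exact (X_le_U S h1 h2).trans (U_le_Pp S o)
        · exact X9_le S
        · exact X0_le S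
      have e2 : ∀ o o' : Option Bool, arcP o ⊆ arcP o' → arcP o' ⊆ arcP o → o = o' := by decide
      exact fun o o' h => e2 o o' (e1 o o' h.le) (e1 o' o h.ge)
    have hP2 : (Pp S (some false)).map ψ.toMonoidHom = Pp S (some false) := by
      have h1 : Pp S none ≤ (Pp S (some false)).map ψ.toMonoidHom := by
        rw [← hB]
        exact Subgroup.map_mono (B_le_Pp S _)
      rcases overB S h1 with h2 | ⟨o, h2⟩
      · exfalso
        apply Pp_ne_top S (some false)
        apply hinj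
        rw [h2]
        exact (Subgroup.map_top_of_surjective _ ψ.surjective).symm
      · rcases o with _ | _ | _
        · exfalso
          have := hne _ _ (hinj (h2.trans hB.symm))
          simp at this
        · exact h2
        · exfalso
          have := hne _ _ (hinj (h2.trans hP1.symm))
          simp at this
    have h1 : (J S.XZ 1 7).map ψ.toMonoidHom ≤ J S.XZ 1 7 := by
      refine V_max_pp S hF hR (o := some false) ((Vv_two S hF hR (some false)).map _) ?_
      rintro g hg _ ⟨d, hd, rfl⟩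
      rw [← hP2] at hg
      obtain ⟨h, hh, rfl⟩ := hg
      refine ⟨h * d * h⁻¹, (mem_normalizer_iff.1 hh d).1 hd, ?_⟩
      rw [map_mul, map_mul, map_inv]
    exact Subgroup.eq_of_le_of_card_ge h1 (Subgroup.card_map_of_injective ψ.injective).ge
  · exact h28

/-- **automorphisms are type preserving** -/
theorem exists_type (φ : MulAut G) : ∃ x : G, ∀ o, (Vv S o).map φ.toMonoidHom = cj x (Vv S o) := by
  obtain ⟨x, hx⟩ := exists_cj_U S hF hR ((U_two S hF hR).map φ.toMonoidHom)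
  have hx' : (J S.XZ 1 8).map φ.toMonoidHom = cj x (J S.XZ 1 8) := by
    apply Subgroup.eq_of_le_of_card_ge hx
    rw [card_cj]
    exact (Subgroup.card_map_of_injective φ.injective).ge
  refine ⟨x, fun o => ?_⟩
  have key : ∀ A : Subgroup G, A.map (MulAut.conj x⁻¹ * φ).toMonoidHom = cj x⁻¹ (A.map φ.toMonoidHom) := by
    intro A
    show _ = (A.map _).map _
    rw [Subgroup.map_map]
    rfl
  have h1 := Vv_of_U S hF hR (ψ := MulAut.conj x⁻¹ * φ) (by rw [key, hx', cj_inv_cj]) o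
  rw [key] at h1
  have h2 := cj_cj_inv x ((Vv S o).map φ.toMonoidHom)
  rw [h1] at h2
  exact h2.symm

omit [Finite F] hF hR in
/-- a subgroup containing `V` and not in `P` contains a conjugate of `U` -/
theorem step {K : Subgroup G} {b : Bool} (hV : Vv S (some b) ≤ K) {n : G}
    (hn : ∃ c, Ev c ∧ (Maps S.R.X n (fun k => c + k) ∨ Maps S.R.X n (fun k => c - k)))
    (hX : ∀ i ∈ arcV (some b), ∀ x ∈ S.R.X i, n * x * n⁻¹ ∈ K) : n ∈ Pp S (some b) ∨ ∃ y, cj y (J S.XZ 1 8) ≤ K := by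
  have hmap : ∀ {f : ZMod (2 * 8) → ZMod (2 * 8)}, Maps S.R.X n f → ∀ i ∈ arcV (some b), S.R.X (f i) ≤ K := by
    intro f hf i hi x hx
    have h1 : n⁻¹ * x * n ∈ S.R.X i := by
      rw [← hf]
      have e : n * (n⁻¹ * x * n) * n⁻¹ = x := by group
      rwa [e]
    have h2 := hX i hi _ h1
    have e : n * (n⁻¹ * x * n) * n⁻¹ = x := by group
    rwa [e] at h2
  have hVX : ∀ i ∈ arcV (some b), S.R.X i ≤ K := fun i hi => (X_le_Vv S hi).trans hV
  obtain ⟨c, hce, hc⟩ := hn
  cases b with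
  | true =>
    have hnf : ∀ j : ZMod (2 * 8), S.R.X j ≤ K → (j = 1 ∨ j = 9 ∨ j = 10) → ∃ y, cj y (J S.XZ 1 8) ≤ K := by
      have h1 : S.R.X 1 ≤ K → ∃ y, cj y (J S.XZ 1 8) ≤ K := by
        intro h
        refine ⟨1, ?_⟩
        rw [cj_one]
        refine J_le' S fun k hk1 hk2 => ?_
        have hk : k = 1 ∨ k = 2 ∨ k = 3 ∨ k = 4 ∨ k = 5 ∨ k = 6 ∨ k = 7 ∨ k = 8 := by omega
        rcases hk with rfl | rfl | rfl | rfl | rfl | rfl | rfl | rfl
        · exact_mod_cast h
        all_goals exact hVX _ (by decide)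
      have h9 : S.R.X 9 ≤ K → ∃ y, cj y (J S.XZ 1 8) ≤ K := by
        intro h
        refine ⟨S.n1, ?_⟩
        rintro _ ⟨x, hx, rfl⟩
        have h2 : J S.XZ 2 9 ≤ K := by
          refine J_le' S fun k hk1 hk2 => ?_
          have hk : k = 2 ∨ k = 3 ∨ k = 4 ∨ k = 5 ∨ k = 6 ∨ k = 7 ∨ k = 8 ∨ k = 9 := by omega
          rcases hk with rfl | rfl | rfl | rfl | rfl | rfl | rfl | rfl
          · exact hVX _ (by decide)
          · exact hVX _ (by decide)
          · exact hVX _ (by decide)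
          · exact hVX _ (by decide)
          · exact hVX _ (by decide)
          · exact hVX _ (by decide)
          · exact hVX _ (by decide)
          · exact_mod_cast h
        exact h2 (S.n1_refl.mem_J hx (by norm_num) (by norm_num))
      rintro j hj (rfl | rfl | rfl)
      · exact h1 hj
      · exact h9 hj
      · obtain ⟨m, hm, hmf⟩ := refl_mem S (i := 2) (hVX 2 (by decide)) (by
          have e : (2 : ZMod (2 * 8)) + 8 = 10 := by decide
          rw [e]; exact hj)
        have := conj_le S hm hmf (hVX 3 (by decide))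
        have e : (2 : ZMod (2 * 8)) * 2 + 8 - 3 = 9 := by decide
        rw [e] at this
        exact h9 this
    rcases hc with hc | hc
    · have hcomb : ∀ c : ZMod (2 * 8), Ev c → c = 0 ∨ ∃ i ∈ arcV (some true), c + i = 1 ∨ c + i = 9 ∨ c + i = 10 := by
        decide
      rcases hcomb c hce with rfl | ⟨i, hi, h1⟩
      · left
        exact T_le_Pp S _ (mem_T_of_maps S (hc.congr fun k => zero_add k))
      · exact Or.inr (hnf _ (hmap hc i hi) h1)
    · have hcomb : ∀ c : ZMod (2 * 8), Ev c → c = 10 ∨ ∃ i ∈ arcV (some true), c - i = 1 ∨ c - i = 9 ∨ c - i = 10 := by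
        decide
      rcases hcomb c hce with rfl | ⟨i, hi, h1⟩
      · left
        obtain ⟨t, ht, rfl⟩ := eq_n1 S hc
        exact mul_mem (T_le_Pp S _ ht) (n1_mem_P S)
      · exact Or.inr (hnf _ (hmap hc i hi) h1)
  | false =>
    have hnf : ∀ j : ZMod (2 * 8), S.R.X j ≤ K → (j = 8 ∨ j = 0 ∨ j = 9) → ∃ y, cj y (J S.XZ 1 8) ≤ K := by
      have h1 : S.R.X 8 ≤ K → ∃ y, cj y (J S.XZ 1 8) ≤ K := by
        intro h
        refine ⟨1, ?_⟩
        rw [cj_one]
        refine J_le' S fun k hk1 hk2 => ?_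
        have hk : k = 8 ∨ k = 1 ∨ k = 2 ∨ k = 3 ∨ k = 4 ∨ k = 5 ∨ k = 6 ∨ k = 7 := by omega
        rcases hk with rfl | rfl | rfl | rfl | rfl | rfl | rfl | rfl
        · exact_mod_cast h
        all_goals exact hVX _ (by decide)
      have h9 : S.R.X 0 ≤ K → ∃ y, cj y (J S.XZ 1 8) ≤ K := by
        intro h
        refine ⟨S.n2, ?_⟩
        rintro _ ⟨x, hx, rfl⟩
        have h2 : J S.XZ 0 7 ≤ K := by
          refine J_le' S fun k hk1 hk2 => ?_
          have hk : k = 0 ∨ k = 1 ∨ k = 2 ∨ k = 3 ∨ k = 4 ∨ k = 5 ∨ k = 6 ∨ k = 7 := by omega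
          rcases hk with rfl | rfl | rfl | rfl | rfl | rfl | rfl | rfl
          · exact_mod_cast h
          all_goals exact hVX _ (by decide)
        exact h2 (S.n2_refl.mem_J hx (by norm_num) (by norm_num))
      rintro j hj (rfl | rfl | rfl)
      · exact h1 hj
      · exact h9 hj
      · obtain ⟨m, hm, hmf⟩ := refl_mem S (i := 1) (hVX 1 (by decide)) (by
          have e : (1 : ZMod (2 * 8)) + 8 = 9 := by decide
          rw [e]; exact hj)
        have := conj_le S hm hmf (hVX 2 (by decide))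
        have e : (2 : ZMod (2 * 8)) * 1 + 8 - 2 = 8 := by decide
        rw [e] at this
        exact h1 this
    rcases hc with hc | hc
    · have hcomb : ∀ c : ZMod (2 * 8), Ev c → c = 0 ∨ ∃ i ∈ arcV (some false), c + i = 8 ∨ c + i = 0 ∨ c + i = 9 := by
        decide
      rcases hcomb c hce with rfl | ⟨i, hi, h1⟩
      · left
        exact T_le_Pp S _ (mem_T_of_maps S (hc.congr fun k => zero_add k))
      · exact Or.inr (hnf _ (hmap hc i hi) h1)
    · have hcomb : ∀ c : ZMod (2 * 8), Ev c → c = 8 ∨ ∃ i ∈ arcV (some false), c - i = 8 ∨ c - i = 0 ∨ c - i = 9 := by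
        decide
      rcases hcomb c hce with rfl | ⟨i, hi, h1⟩
      · left
        obtain ⟨t, ht, rfl⟩ := eq_n2 S hc
        exact mul_mem (T_le_Pp S _ ht) (n2_mem_P S)
      · exact Or.inr (hnf _ (hmap hc i hi) h1)

omit [Finite F] [Finite G] hF hR S in
theorem cj_ne_top {K : Subgroup G} (hK : K ≠ ⊤) (x : G) : cj x K ≠ ⊤ := by
  intro h1
  apply hK
  rw [← cj_inv_cj x K, h1]
  exact Subgroup.map_top_of_surjective _ (MulAut.conj x⁻¹).surjective

omit [Finite F] hF hR in
/-- **overgroups of the radicals** -/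
theorem between {K : Subgroup G} (hK : K ≠ ⊤) {a : Option Bool} {g : G} (hV : cj g (Vv S a) ≤ K) :
    ∃ (b : Bool) (g' : G), cj g' (Vv S (some b)) ≤ K ∧ K ≤ cj g' (Pp S (some b)) := by
  by_cases hU : ∃ x, cj x (J S.XZ 1 8) ≤ K
  · obtain ⟨x, hx⟩ := hU
    have h1 : J S.XZ 1 8 ≤ cj x⁻¹ K := by
      have := cj_mono (x := x⁻¹) hx
      rwa [cj_inv_cj] at this
    have key : ∀ b : Bool, cj x⁻¹ K ≤ Pp S (some b) →
        ∃ (b : Bool) (g' : G), cj g' (Vv S (some b)) ≤ K ∧ K ≤ cj g' (Pp S (some b)) := by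
      intro b hb
      refine ⟨b, x, (cj_mono (Vv_le_U S _)).trans hx, ?_⟩
      have := cj_mono (x := x) hb
      rwa [cj_cj_inv] at this
    rcases overgroup (cond_top S) (M := cj x⁻¹ K) (by rwa [inf_top_eq]) with h | h | h
    · exact absurd (top_le_iff.1 h) (cj_ne_top hK _)
    · exact key true h
    · exact key false h
  · rcases a with _ | b
    · exact absurd ⟨g, hV⟩ hU
    refine ⟨b, g, hV, ?_⟩
    have hV' : Vv S (some b) ≤ cj g⁻¹ K := by
      have := cj_mono (x := g⁻¹) hV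
      rwa [cj_inv_cj] at this
    suffices h : cj g⁻¹ K ≤ Pp S (some b) by
      have := cj_mono (x := g) h
      rwa [cj_cj_inv] at this
    intro k hk
    obtain ⟨u, hu, n, hn, u', hu', rfl⟩ := bru S k
    have hst := step S (K := cj u⁻¹ (cj g⁻¹ K)) (b := b) (n := n) (by
      intro x hx
      rw [mem_cj, inv_inv]
      exact hV' (conj_Vv S _ hu hx)) hn (by
      intro i hi x hx
      rw [mem_cj, inv_inv]
      have h1 : u'⁻¹ * x * u'⁻¹⁻¹ ∈ Vv S (some b) := conj_Vv S _ (inv_mem hu') (X_le_Vv S hi hx)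
      have h2 := mul_mem (mul_mem hk (hV' h1)) (inv_mem hk)
      have e : u * n * u' * (u'⁻¹ * x * u'⁻¹⁻¹) * (u * n * u')⁻¹ = u * (n * x * n⁻¹) * u⁻¹ := by group
      rwa [e] at h2)
    rcases hst with h | ⟨y, hy⟩
    · exact mul_mem (mul_mem (U_le_Pp S _ hu) h) (U_le_Pp S _ hu')
    · exfalso
      apply hU
      refine ⟨g * (u * y), ?_⟩
      rw [cj_mul, cj_mul]
      have h1 := cj_mono (x := g) (cj_mono (x := u) hy)
      rwa [cj_cj_inv, cj_cj_inv] at h1

/-- **the canonical parabolic subgroup** -/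
theorem canon_pp {K : Subgroup G} (hK : K ≠ ⊤) {a : Option Bool} {g : G} (hV : cj g (Vv S a) ≤ K) :
    ∃ (b : Option Bool) (g' : G), K ≤ cj g' (Pp S b) ∧
      ∀ φ : MulAut G, (∀ k ∈ K, φ k ∈ K) → ∀ x ∈ cj g' (Pp S b), φ x ∈ cj g' (Pp S b) := by
  have hfact : Fact (Nat.Prime 2) := ⟨Nat.prime_two⟩
  obtain ⟨b, g', h1, h2⟩ := between S hK hV
  refine ⟨some b, g', h2, fun φ hφ x hx => ?_⟩
  set R : Subgroup G := (pCore 2 ↥K).map K.subtype with hRd
  have hR2 : IsPGroup 2 R := (Lib.Cores.pCore_isPGroup (G := K) 2).map _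
  have hRφ : ∀ r ∈ R, φ r ∈ R := H459.RgdRad.iv_core (x := φ) (N := K) hφ
  have hVR : cj g' (Vv S (some b)) ≤ R := by
    refine H470.EPO.le_core h1 (fun k hk v hv => ?_) ((Vv_two S hF hR (some b)).map _)
    obtain ⟨y, hy, rfl⟩ := h2 hk
    obtain ⟨z, hz, rfl⟩ := hv
    refine ⟨y * z * y⁻¹, (mem_normalizer_iff.1 (Pp_le_norm S _ hy) z).1 hz, ?_⟩
    simp [mul_assoc]
  obtain ⟨y, hy⟩ := exists_cj_U S hF hR hR2
  have hy' : R ≤ cj y (Pp S none) := hy.trans (cj_mono (U_le_Pp S none))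
  obtain ⟨z, hz⟩ := exists_type S hF hR φ
  have e1 : (cj g' (Vv S (some b))).map φ.toMonoidHom = cj (φ g' * z) (Vv S (some b)) := by
    rw [map_cj, hz, cj_mul]
  have h3 : cj (φ g' * z) (Vv S (some b)) ≤ R := by
    rw [← e1]
    rintro _ ⟨r, hr, rfl⟩
    exact hRφ r (hVR hr)
  have e2 := cj_of_le S (hVR.trans hy')
  have e3 := cj_of_le S (h3.trans hy')
  have e4 : ∀ x : G, cj x (Pp S (some b)) = normalizer (cj x (Vv S (some b)) : Set G) := by
    intro x
    rw [← norm_cj]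
    cases b <;> rfl
  have e5 : (cj g' (Pp S (some b))).map φ.toMonoidHom = cj g' (Pp S (some b)) := by
    rw [e4, norm_map, e1, ← e4, e3, ← e2]
    exact (e4 g').symm ▸ rfl
  rw [← e5]
  exact ⟨x, hx, rfl⟩

end Cfsg.Agent.H424.EPX
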