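import Cfsg.Agent.H424.EPX.Own
import Cfsg.Agent.SignalizersComponents.CoprimeGen

/-!
# `U ∩ n U n⁻¹` in `²F₄(q)` (helper424, for S5745, own characteristic)

`T` has a noncyclic elementary abelian subgroup of odd order, and `C_U(t)` lies in one root group for `1 ≠ t ∈ T`; so
`U ∩ n U n⁻¹` is generated by root groups.
-/

set_option autoImplicit false
set_option linter.unusedSectionVars false

namespace Cfsg.Agent.H424.EPX

open Cfsg.Agent.KFacts.TwF4 Cfsg.Agent.KFacts.TwF4.Full Cfsg.Agent.KFacts.TwF4.Arc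
open Cfsg.Agent.KFacts.TwF4.Inv Cfsg.Agent.KFacts.TwF4.SylU
open Cfsg.Agent.SplitTwo Cfsg.Agent.SplitTwo.ZS Cfsg.Agent.TitsThree.RankTwoZ
open Cfsg.Agent.SplitTwo.RootSysZ Subgroup Cfsg Cfsg.Agent.H248.TwF4Over
open Cfsg.Agent.H284

universe u

variable {F : Type*} [Field F] {σ : F →+* F} {G : Type u} [Group G] (S : Full σ G)

theorem fix_U {t : G} (ht : t ∈ S.T) (ht1 : t ≠ 1) {x : G} (hx : x ∈ J S.XZ 1 8) (h : t * x * t⁻¹ = x) :
    ∃ i ∈ arcV none, x ∈ S.R.X i := by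
  by_cases hf : ∀ j : ℤ, 1 ≤ j → j ≤ 8 → ∀ x ∈ S.XZ j, t * x * t⁻¹ = x → x = 1
  · have h1 := S.fix_J_one ht (a := 1) (b := 8) (by norm_num) hf hx h
    exact ⟨1, by decide, by rw [h1]; exact one_mem _⟩
  · push Not at hf
    obtain ⟨j, hj1, hj2, y, hy, hty, hy1⟩ := hf
    have h1 := KFacts.TwF4.AutNorm.Tk_of_fix S ht hy hy1 hty
    have h2 := S.fix_J h1 ht1 (a := 1) (b := 8) (by omega) (by omega) (by norm_num) hx h
    have hj : ∃ i ∈ arcV none, (j : ZMod (2 * 8)) = i := by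
      have hk : j = 1 ∨ j = 2 ∨ j = 3 ∨ j = 4 ∨ j = 5 ∨ j = 6 ∨ j = 7 ∨ j = 8 := by omega
      rcases hk with rfl | rfl | rfl | rfl | rfl | rfl | rfl | rfl <;> exact ⟨_, by decide, rfl⟩
    obtain ⟨i, hi1, hi⟩ := hj
    refine ⟨i, hi1, ?_⟩
    rw [← hi]
    exact h2

/-- an elementary abelian subgroup of order `≥ r²` of the torus -/
theorem exists_elem [Finite F] [Finite G] (hF : ∃ c : Fˣ, c ≠ 1) : ∃ (r : ℕ) (_ : Fact r.Prime) (A : Subgroup G), r ≠ 2 ∧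
    A ≤ S.T ∧ IsElementaryAbelian r A ∧ r ^ 2 ≤ Nat.card A := by
  classical
  have hnt : 1 < Nat.card Fˣ := by
    obtain ⟨c, hc⟩ := hF
    have : Nontrivial Fˣ := ⟨c, 1, hc⟩
    exact Finite.one_lt_card
  obtain ⟨r, hr, hrd⟩ := Nat.exists_prime_and_dvd hnt.ne'
  have hfact : Fact r.Prime := ⟨hr⟩
  obtain ⟨c, hc⟩ := exists_prime_orderOf_dvd_card' (G := Fˣ) r hrd
  have hcr : c ^ r = 1 := by rw [← hc]; exact pow_orderOf_eq_one c
  have hr2 : r ≠ 2 := by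
    rintro rfl
    have h1 := unit_sq S (x := c) (by rw [← pow_two]; exact hcr)
    rw [h1, orderOf_one] at hc
    omega
  let A : Subgroup G :=
    { carrier := {g | ∃ c d : Fˣ, c ^ r = 1 ∧ d ^ r = 1 ∧ S.h c d = g}
      one_mem' := ⟨1, 1, one_pow _, one_pow _, S.h_one⟩
      mul_mem' := by
        rintro _ _ ⟨c, d, hc, hd, rfl⟩ ⟨c', d', hc', hd', rfl⟩
        exact ⟨c * c', d * d', by rw [mul_pow, hc, hc', one_mul], by rw [mul_pow, hd, hd', one_mul], by rw [S.h_mul]⟩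
      inv_mem' := by
        rintro _ ⟨c, d, hc, hd, rfl⟩
        exact ⟨c⁻¹, d⁻¹, by rw [inv_pow, hc, inv_one], by rw [inv_pow, hd, inv_one], by rw [S.h_inv]⟩ }
  have hinj : ∀ c d c' d' : Fˣ, S.h c d = S.h c' d' → c = c' ∧ d = d' := S.h_inj
  refine ⟨r, hfact, A, hr2, ?_, ⟨⟨⟨?_⟩⟩, ?_⟩, ?_⟩
  · rintro _ ⟨c, d, -, -, rfl⟩
    exact S.mem_T.2 ⟨c, d, rfl⟩
  · rintro ⟨_, c, d, -, -, rfl⟩ ⟨_, c', d', -, -, rfl⟩
    apply Subtype.ext
    show S.h c d * S.h c' d' = S.h c' d' * S.h c d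
    rw [S.h_mul, S.h_mul, mul_comm c, mul_comm d]
  · rintro _ ⟨c, d, hc, hd, rfl⟩
    rw [h_pow, hc, hd, S.h_one]
  · let f : Fin r × Fin r → A := fun x => ⟨S.h (c ^ (x.1 : ℕ)) (c ^ (x.2 : ℕ)), _, _, by
      rw [← pow_mul, mul_comm, pow_mul, hcr, one_pow], by rw [← pow_mul, mul_comm, pow_mul, hcr, one_pow], rfl⟩
    have hf : Function.Injective f := by
      rintro ⟨a, b⟩ ⟨a', b'⟩ hab
      have h1 := hinj _ _ _ _ (congrArg Subtype.val hab)
      have h2 : (a : ℕ) = a' := pow_injOn_Iio_orderOf (by rw [Set.mem_Iio, hc]; exact a.2) (by rw [Set.mem_Iio, hc]; exact a'.2) h1.1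
      have h3 : (b : ℕ) = b' := pow_injOn_Iio_orderOf (by rw [Set.mem_Iio, hc]; exact b.2) (by rw [Set.mem_Iio, hc]; exact b'.2) h1.2
      exact Prod.ext (Fin.ext h2) (Fin.ext h3)
    have h1 := Nat.card_le_card_of_injective f hf
    rw [Nat.card_prod, Nat.card_eq_fintype_card, Fintype.card_fin] at h1
    rw [pow_two]
    exact h1

section fin

variable [Finite F] [Finite G] (hF : ∃ c : Fˣ, c ≠ 1) (hR : S.R.p = 2)

include hF hR

/-- **`U ∩ n U n⁻¹`** -/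
theorem inf_le {n : G} {f f' : ZMod (2 * 8) → ZMod (2 * 8)} (hf : Maps S.R.X n f) (hf' : ∀ k, f (f' k) = k)
    {o : Option Bool} (ho : ∀ i ∈ arcV none, f i ∈ arcV none → f i ∈ arcV o) :
    J S.XZ 1 8 ⊓ cj n (J S.XZ 1 8) ≤ Vv S o := by
  obtain ⟨r, hfact, A, hr2, hAT, hAe, hA2⟩ := exists_elem S hF
  have hnT : ∀ t ∈ S.T, n⁻¹ * t * n ∈ S.T := by
    intro t ht
    have h1 := ((hf.inv hf').mul (S.T_iff.1 ht)).mul hf
    refine S.T_iff.2 (h1.congr fun k => ?_)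
    show f' (f k) = k
    have h2 := maps_unique S ((hf.inv hf').mul hf) (f := f' ∘ f) (g := id) (by rw [inv_mul_cancel]; exact Maps.one) k
    exact h2
  have h2 : IsPGroup 2 (J S.XZ 1 8 ⊓ cj n (J S.XZ 1 8) : Subgroup G) := (U_two S hF hR).to_le inf_le_left
  have hdvd : ¬ r ∣ Nat.card (J S.XZ 1 8 ⊓ cj n (J S.XZ 1 8) : Subgroup G) := by
    have : Fact (Nat.Prime 2) := ⟨Nat.prime_two⟩
    obtain ⟨m, hm⟩ := IsPGroup.iff_card.1 h2
    rw [hm]
    intro h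
    exact hr2 ((Nat.prime_dvd_prime_iff_eq hfact.out Nat.prime_two).1 (hfact.out.dvd_of_dvd_pow h))
  have hN : A ≤ normalizer ((J S.XZ 1 8 ⊓ cj n (J S.XZ 1 8) : Subgroup G) : Set G) := by
    intro t ht
    refine mem_norm_of fun x hx => ⟨S.T_conj_J (hAT ht) hx.1, ?_⟩
    have hx2 := mem_cj.1 hx.2
    show t * x * t⁻¹ ∈ cj n (J S.XZ 1 8)
    rw [mem_cj]
    have e : n⁻¹ * (t * x * t⁻¹) * n = (n⁻¹ * t * n) * (n⁻¹ * x * n) * (n⁻¹ * t * n)⁻¹ := by group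
    rw [e]
    exact S.T_conj_J (hnT t (hAT ht)) hx2
  refine (SignalizersComponents.CoprimeGen.le_iSup_centralizer_ne_one hAe hA2 hdvd hN).trans (iSup_le ?_)
  rintro ⟨t, htA, ht1⟩ x ⟨⟨hxU, hxn⟩, hxt⟩
  have ht := hAT htA
  have hxt' : x ∈ centralizer {t} := hxt
  rw [mem_centralizer_singleton_iff] at hxt'
  have h3 : t * x * t⁻¹ = x := by rw [← hxt']; group
  obtain ⟨i, hi1, hi⟩ := fix_U S ht ht1 hxU h3
  obtain ⟨l, hl1, hl⟩ := fix_U S (hnT t ht) (t := n⁻¹ * t * n) (fun h => ht1 (by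
    have e : t = n * (n⁻¹ * t * n) * n⁻¹ := by group
    rw [e, h]; group)) (mem_cj.1 hxn) (by
      have e : n⁻¹ * t * n * (n⁻¹ * x * n) * (n⁻¹ * t * n)⁻¹ = n⁻¹ * (t * x * t⁻¹) * n := by group
      rw [e, h3])
  have hl' : x ∈ S.R.X (f l) := by
    have := (hf l _).2 hl
    have e : n * (n⁻¹ * x * n) * n⁻¹ = x := by group
    rwa [e] at this
  by_cases hil : f l = i
  · rw [← hil] at hi1
    exact X_le_Vv S (ho l hl1 hi1) hl'
  · rw [S.X_inf hil hl' hi]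
    exact one_mem _

/-- **`desc`** -/
theorem desc : Desc S := by
  intro g hg
  obtain ⟨b, hb, n, ⟨c, hce, hc⟩, b', hb', rfl⟩ := bru S g
  have key : ∀ (o : Option Bool), J S.XZ 1 8 ⊓ cj n (J S.XZ 1 8) ≤ Vv S o →
      ∀ u ∈ J S.XZ 1 8, (b * n * b')⁻¹ * u * (b * n * b') ∈ J S.XZ 1 8 ⊔ S.T → u ∈ Vv S o := by
    intro o ho u hu h
    have h1 := conj_mem_U S hF hR hu h
    have h2 : b⁻¹ * u * b ∈ J S.XZ 1 8 := mul_mem (mul_mem (inv_mem hb) hu) hb
    have h3 : b⁻¹ * u * b ∈ Vv S o := by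
      refine ho ⟨h2, mem_cj.2 ?_⟩
      have e : n⁻¹ * (b⁻¹ * u * b) * n = b' * ((b * n * b')⁻¹ * u * (b * n * b')) * b'⁻¹ := by group
      rw [e]
      exact mul_mem (mul_mem hb' h1) (inv_mem hb')
    have h4 := conj_Vv S o hb h3
    have e : b * (b⁻¹ * u * b) * b⁻¹ = u := by group
    rwa [e] at h4
  rcases hc with hc | hc
  · have htab : ∀ c : ZMod (2 * 8), Ev c → c = 0 ∨
        (∀ i ∈ arcV none, c + i ∈ arcV none → c + i ∈ arcV (some true)) ∨
        ∀ i ∈ arcV none, c + i ∈ arcV none → c + i ∈ arcV (some false) := by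
      decide
    rcases htab c hce with rfl | h | h
    · exfalso
      apply hg
      exact mul_mem (mul_mem (U_le_Pp S none hb) (T_le_Pp S none (mem_T_of_maps S (hc.congr fun k => zero_add k))))
        (U_le_Pp S none hb')
    · exact Or.inl (key (some true) (inf_le S hF hR hc (f' := fun k => k - c) (fun k => by ring) h))
    · exact Or.inr (key (some false) (inf_le S hF hR hc (f' := fun k => k - c) (fun k => by ring) h))
  · have htab : ∀ c : ZMod (2 * 8), Ev c →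
        (∀ i ∈ arcV none, c - i ∈ arcV none → c - i ∈ arcV (some true)) ∨
        ∀ i ∈ arcV none, c - i ∈ arcV none → c - i ∈ arcV (some false) := by
      decide
    rcases htab c hce with h | h
    · exact Or.inl (key (some true) (inf_le S hF hR hc (f' := fun k => c - k) (fun k => by ring) h))
    · exact Or.inr (key (some false) (inf_le S hF hR hc (f' := fun k => c - k) (fun k => by ring) h))

end fin

end Cfsg.Agent.H424.EPX
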