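import Cfsg.Agent.H742.EX.NoS
import Cfsg.Agent.H807.EPX.EPi
import Cfsg.Agent.KFacts.J2.Aut
import Cfsg.Agent.KFacts.J2.Facts
import Cfsg.Agent.J2Type.ThreeF
import Cfsg.Agent.J2Type.FiveFus

/-!
# S5745: the `T`-side of the row `J₂`, `k = 1` (helper424)

`j2_false` : `N ≅ J₂`, `|G| ≥ 6.7 * 10 ^ 16`, `|C_G(x)| ≤ 2 ^ 25` for `x` of order 3, 5, 7: impossible (`E_π`, `π = {3, 5, 7}`).
-/

set_option autoImplicit false
set_option linter.unusedSectionVars false

namespace Cfsg.Agent.H424.EPX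

open Subgroup Cfsg Cfsg.Agent.H284 Cfsg.Agent.H209.EPX Cfsg.Agent.H742.EX Cfsg.Agent.H807.EPX

/-! ### Counting elements of order 3, 5, 7 in `J₂` -/

section count

variable {T : Type*} [Group T] [Finite T]

/-- the class of `a` -/
theorem card_class (a : T) : Nat.card {y : T // IsConj a y} * Nat.card (centralizer ({a} : Set T)) = Nat.card T := by
  have h := Cfsg.Agent.J2Type.CStruct.card_conj a
  have e1 : Nat.card {y : T // ∃ k : T, k * a * k⁻¹ = y} = Nat.card {y : T // IsConj a y} :=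
    Nat.card_congr (Equiv.subtypeEquivRight fun y => isConj_iff.symm)
  have e2 : Nat.card {k : T // k * a = a * k} = Nat.card (centralizer ({a} : Set T)) :=
    Nat.card_congr (Equiv.subtypeEquivRight fun y => mem_centralizer_singleton_iff.symm)
  rw [e1, e2] at h
  exact h

theorem ncard_three {z u : T} (h : J2Type.Base.Fus z u) : {x : T | orderOf x = 3}.ncard ≤ 17360 := by
  obtain ⟨a, b, ha, hb, hca, hcb, hcl, -⟩ := J2Type.ThreeF.main h
  have hG := J2Type.Order.card_of_fus h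
  have h1 := card_class a
  have h2 := card_class b
  rw [hca, hG] at h1
  rw [hcb, hG] at h2
  have h3 : {x : T | orderOf x = 3} ⊆ {x : T | IsConj a x} ∪ {x : T | IsConj b x} := by
    intro x hx
    rcases hcl x hx with h | h
    · exact Or.inl h.symm
    · exact Or.inr h.symm
  have h4 := (Set.ncard_le_ncard h3 (Set.toFinite _)).trans (Set.ncard_union_le _ _)
  have e1 : {x : T | IsConj a x}.ncard = Nat.card {y : T // IsConj a y} := (Nat.card_coe_set_eq _).symm
  have e2 : {x : T | IsConj b x}.ncard = Nat.card {y : T // IsConj b y} := (Nat.card_coe_set_eq _).symm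
  rw [e1, e2] at h4
  omega

/-- elements of order `r`, by Sylow -/
theorem ncard_sylow {r m : ℕ} [hr : Fact r.Prime] (hn : ∀ P : Sylow r T, Nat.card (normalizer ((P : Subgroup T) : Set T)) = m)
    {c : ℕ} (hc : ∀ P : Sylow r T, Nat.card P = c) :
    {x : T | orderOf x = r}.ncard ≤ Nat.card T / m * (c - 1) := by
  classical
  have := Fintype.ofFinite (Sylow r T)
  obtain ⟨P₀⟩ : Nonempty (Sylow r T) := inferInstance
  have h1 : Fintype.card (Sylow r T) = Nat.card T / m := by
    rw [← Nat.card_eq_fintype_card, P₀.card_eq_index_normalizer, ← hn P₀]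
    have h2 := Subgroup.index_mul_card (normalizer ((P₀ : Subgroup T) : Set T))
    rw [← h2, Nat.mul_div_cancel _ Nat.card_pos]
    rfl
  have h2 : {x : T | orderOf x = r} ⊆ ⋃ P ∈ (Finset.univ : Finset (Sylow r T)), ((P : Subgroup T) : Set T) \ {1} := by
    intro x hx
    have hx' : orderOf x = r := hx
    have hp : IsPGroup r (zpowers x) := IsPGroup.of_card (n := 1) (by rw [Nat.card_zpowers, hx', pow_one])
    obtain ⟨P, hP⟩ := hp.exists_le_sylow
    simp only [Set.mem_iUnion]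
    refine ⟨P, Finset.mem_univ _, hP (mem_zpowers x), ?_⟩
    intro h3
    rw [Set.mem_singleton_iff] at h3
    rw [h3, orderOf_one] at hx'
    exact hr.out.one_lt.ne hx'
  refine (Set.ncard_le_ncard h2 (Set.toFinite _)).trans ?_
  refine (Finset.set_ncard_biUnion_le _ _).trans ?_
  rw [← h1, ← Finset.card_univ, ← smul_eq_mul]
  refine Finset.sum_le_card_nsmul _ _ _ fun P _ => ?_
  rw [Set.ncard_sdiff_singleton_of_mem (one_mem (P : Subgroup T)), ← Nat.card_coe_set_eq]
  have h5 : Nat.card ((P : Subgroup T) : Set T) = c := hc P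
  rw [h5]

theorem ncard_five {z u : T} (h : J2Type.Base.Fus z u) : {x : T | orderOf x = 5}.ncard ≤ 48384 := by
  have : Fact (Nat.Prime 5) := ⟨by norm_num⟩
  have h1 := ncard_sylow (T := T) (r := 5) (m := 300) (c := 25) (fun P => (J2Type.FiveFus.sylow_five h P).2.2.1)
    (fun P => (J2Type.FiveFus.sylow_five h P).2.1)
  rw [J2Type.Order.card_of_fus h] at h1
  exact h1

theorem ncard_seven {z u : T} (h : J2Type.Base.Fus z u) : {x : T | orderOf x = 7}.ncard ≤ 86400 := by
  have : Fact (Nat.Prime 7) := ⟨by norm_num⟩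
  have h1 := ncard_sylow (T := T) (r := 7) (m := 42) (c := 7) (fun P => (J2Type.ThreeF.sylow_seven h P).2.1)
    (fun P => by
      have hG := J2Type.Order.card_of_fus h
      obtain ⟨n, hn⟩ := P.isPGroup'.exists_card_eq
      have h2 := P.card_eq_multiplicity
      rw [hG] at h2
      rw [h2]
      have h3 : (604800 : ℕ).factorization 7 = 1 := by
        have e : (604800 : ℕ) = 7 * 86400 := by norm_num
        rw [e, Nat.factorization_mul (by norm_num) (by norm_num), Finsupp.add_apply,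
          Nat.Prime.factorization_self (by norm_num), Nat.factorization_eq_zero_of_not_dvd (by norm_num)]
      rw [h3, pow_one])
  rw [J2Type.Order.card_of_fus h] at h1
  exact h1

end count

/-! ### `H ≤ Aut(J₂)` -/

section aut

variable {G : Type*} [Group G] {H N : Subgroup G}

/-- the automorphism of `N` induced by `g` -/
def au (hn : ∀ g ∈ H, ∀ n ∈ N, g * n * g⁻¹ ∈ N) : H →* MulAut N where
  toFun g :=
    { toFun := fun n => ⟨g * n * (g : G)⁻¹, hn g g.2 n n.2⟩
      invFun := fun n => ⟨(g : G)⁻¹ * n * g, by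
        have := hn (g : G)⁻¹ (H.inv_mem g.2) n n.2
        rwa [inv_inv] at this⟩
      left_inv := fun n => Subtype.ext (by simp [mul_assoc])
      right_inv := fun n => Subtype.ext (by simp [mul_assoc])
      map_mul' := fun a b => Subtype.ext (by simp [mul_assoc]) }
  map_one' := by
    ext n
    simp
  map_mul' a b := by
    ext n
    simp [mul_assoc]

theorem mem_of_inner (hn : ∀ g ∈ H, ∀ n ∈ N, g * n * g⁻¹ ∈ N) (hc : centralizer (N : Set G) = ⊥) {g : H} {k : N}
    (h : au hn g = MulAut.conj k) : (g : G) ∈ N := by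
  have h1 : (k : G)⁻¹ * g ∈ centralizer (N : Set G) := by
    rw [mem_centralizer_iff]
    intro n hnN
    have h2 : (g : G) * n * (g : G)⁻¹ = k * n * (k : G)⁻¹ := congrArg (fun f : MulAut N => ((f ⟨n, hnN⟩ : N) : G)) h
    have h3 : (g : G) * n = k * n * (k : G)⁻¹ * g := by rw [← h2, inv_mul_cancel_right]
    calc n * ((k : G)⁻¹ * g) = (k : G)⁻¹ * (k * n * (k : G)⁻¹ * g) := by group
      _ = (k : G)⁻¹ * (g * n) := by rw [← h3]
      _ = (k : G)⁻¹ * g * n := by group
  rw [hc, mem_bot] at h1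
  have h4 : (g : G) = k := by rw [inv_mul_eq_one] at h1; exact h1.symm
  rw [h4]
  exact k.2

variable {t u : N} {Q : Subgroup (centralizer ({t} : Set N))} {v : Fin 5 → centralizer ({t} : Set N)}
  {ρ : centralizer ({t} : Set N) →* Cfsg.Agent.J2Type.Model.SP}

/-- `|H : N| ≤ 2` -/
theorem mul_mem_of [Finite G] (D : KFacts.J2.Basic.Dat t u Q v ρ) (hn : ∀ g ∈ H, ∀ n ∈ N, g * n * g⁻¹ ∈ N)
    (hc : centralizer (N : Set G) = ⊥) {a b : G} (ha : a ∈ H) (hb : b ∈ H) (haN : a ∉ N) (hbN : b ∉ N) : a * b ∈ N := by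
  have h1 : ∀ {g : G} (hg : g ∈ H), g ∉ N → ∀ k, au hn ⟨g, hg⟩ ≠ MulAut.conj k := fun {g} hg hgN k h =>
    hgN (mem_of_inner hn hc (g := ⟨g, hg⟩) h)
  obtain ⟨k, hk⟩ := KFacts.J2.Aut.mul_inner D (h1 ha haN) (h1 hb hbN)
  rw [← map_mul] at hk
  exact mem_of_inner hn hc hk

theorem relIndex_le [Finite G] (D : KFacts.J2.Basic.Dat t u Q v ρ) (hn : ∀ g ∈ H, ∀ n ∈ N, g * n * g⁻¹ ∈ N)
    (hc : centralizer (N : Set G) = ⊥) : N.relIndex H ≤ 2 := by
  by_cases h : H ≤ N
  · rw [Subgroup.relIndex_eq_one.2 h]; norm_num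
  · obtain ⟨a, ha, haN⟩ := SetLike.not_le_iff_exists.1 h
    apply le_of_eq
    show (N.subgroupOf H).index = 2
    rw [Subgroup.index_eq_two_iff]
    refine ⟨⟨a, ha⟩, fun b => ?_⟩
    rw [mem_subgroupOf, mem_subgroupOf]
    by_cases hb : (b : G) ∈ N
    · refine Or.inr ⟨hb, fun h1 => haN ?_⟩
      exact (N.mul_mem_cancel_left hb).1 h1
    · exact Or.inl ⟨mul_mem_of D hn hc b.2 ha hb haN, hb⟩

end aut

section EPS

variable {G : Type*} [Group G] [Finite G] {H N : Subgroup G} {T : Type} [Group T] {e : N ≃* (Fin 1 → T)} (h : EPS H N e)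
  (hT : Spor.IsoJ2 T)

include h hT

theorem isoN : Spor.IsoJ2 N := by
  obtain ⟨f⟩ := hT
  exact ⟨(e.trans (MulEquiv.funUnique (Fin 1) T)).trans f⟩

theorem mem_of_odd' {x : G} (hx : x ∈ H) {m : ℕ} (hm : Odd m) (hxm : x ^ m = 1) : x ∈ N := by
  obtain ⟨t, u, Q, v, ρ, D⟩ := KFacts.J2.Facts.exists_dat_of (isoN h hT)
  by_contra hxN
  have h2 : x * x ∈ N := mul_mem_of D h.nrm h.cent hx hx hxN hxN
  obtain ⟨c, rfl⟩ := hm
  apply hxN
  have h3 : (x * x) ^ (c + 1) ∈ N := N.pow_mem h2 _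
  have e1 : (x * x) ^ (c + 1) = x ^ (2 * c + 1) * x := by
    rw [← pow_two, ← pow_mul, ← pow_succ]
    congr 1
  rwa [e1, hxm, one_mul] at h3

theorem card_H_le : Nat.card H ≤ 1209600 := by
  obtain ⟨t, u, Q, v, ρ, D⟩ := KFacts.J2.Facts.exists_dat_of (isoN h hT)
  have h1 := relIndex_le D h.nrm h.cent
  have h2 : Nat.card N = 604800 := J2Type.Order.card_of_fus D.F
  have h3 : Nat.card N * N.relIndex H = Nat.card H := by
    have h4 := Subgroup.relIndex_mul_relIndex ⊥ N H bot_le h.le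
    rwa [Subgroup.relIndex_bot_left, Subgroup.relIndex_bot_left] at h4
  rw [← h3, h2]
  omega

theorem ncard_H {r c : ℕ} (hr : Odd r) (hc : {x : N | orderOf x = r}.ncard ≤ c) :
    {x : G | x ∈ H ∧ orderOf x = r}.ncard ≤ c := by
  refine le_trans ?_ hc
  have h1 : {x : G | x ∈ H ∧ orderOf x = r} ⊆ (fun x : N => (x : G)) '' {x : N | orderOf x = r} := by
    rintro x ⟨hx, hxr⟩
    have h2 : x ∈ N := mem_of_odd' h hT hx hr (by rw [← hxr]; exact pow_orderOf_eq_one x)
    refine ⟨⟨x, h2⟩, ?_, rfl⟩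
    show orderOf (⟨x, h2⟩ : N) = r
    rw [Subgroup.orderOf_mk, hxr]
  exact (Set.ncard_le_ncard h1 (Set.toFinite _)).trans (Set.ncard_image_le (Set.toFinite _))

/-- no two-point stabiliser is a `2`-group -/
theorem not_two {x : G} (hx : x ∉ H) : ¬ IsPGroup 2 (H ⊓ cj x H : Subgroup G) := by
  intro hM
  have hfin : Finite T := by
    have h1 : Finite (Fin 1 → T) := Finite.of_equiv N e.toEquiv
    exact Finite.of_surjective (fun f : Fin 1 → T => f 0) fun t => ⟨fun _ => t, rfl⟩
  have hp2 : Fact (Nat.Prime 2) := ⟨Nat.prime_two⟩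
  obtain ⟨s, hs, hs2, -⟩ := EPS.exists_T h hx hM
  obtain ⟨t, u, Q, v, ρ, D⟩ := KFacts.J2.Facts.exists_dat_of hT
  have h3 : 3 ∣ Nat.card (centralizer ({s} : Set T)) := by
    have key : ∀ a : T, IsConj a s → 3 ∣ Nat.card (centralizer ({a} : Set T)) →
        3 ∣ Nat.card (centralizer ({s} : Set T)) := by
      intro a has h3
      have h4 := card_class a
      have h5 := card_class s
      have e1 : Nat.card {y : T // IsConj a y} = Nat.card {y : T // IsConj s y} :=
        Nat.card_congr (Equiv.subtypeEquivRight fun y => ⟨fun h => has.symm.trans h, fun h => has.trans h⟩)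
      rw [e1, ← h5] at h4
      have h6 : 0 < Nat.card {y : T // IsConj s y} :=
        Nat.card_pos_iff.2 ⟨⟨⟨s, IsConj.refl s⟩⟩, inferInstance⟩
      rw [← Nat.eq_of_mul_eq_mul_left h6 h4]
      exact h3
    rcases D.F.cover s hs with h4 | h4
    · exact key t h4 (by rw [D.F.cardC]; norm_num)
    · exact key u h4 (by rw [J2Type.Order.card_centralizer_u D.F]; norm_num)
  obtain ⟨n, hn⟩ := IsPGroup.iff_card.1 hs2
  rw [hn] at h3
  have h4 := (Nat.prime_three.dvd_of_dvd_pow h3)
  norm_num at h4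

theorem hM_j2 : ∀ y ∉ H, ∃ r ∈ ({3, 5, 7} : Finset ℕ), r ∣ Nat.card (H ⊓ cj y H : Subgroup G) := by
  intro y hy
  have hp2 : Fact (Nat.Prime 2) := ⟨Nat.prime_two⟩
  obtain ⟨r, hr, hr2, hrd⟩ := exists_prime_of_not_pgroup Nat.prime_two (not_two h hT hy)
  refine ⟨r, ?_, hrd⟩
  have hrf := Fact.mk hr
  obtain ⟨x, hx⟩ := exists_prime_orderOf_dvd_card' r hrd
  have hxH : (x : G) ∈ H := x.2.1
  have hxr : orderOf (x : G) = r := by rw [Subgroup.orderOf_coe, hx]
  have hodd : Odd r := hr.odd_of_ne_two hr2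
  have hxN : (x : G) ∈ N := mem_of_odd' h hT hxH hodd (by rw [← hxr]; exact pow_orderOf_eq_one _)
  have h1 : r ∣ Nat.card N := by
    have h2 : orderOf (⟨x, hxN⟩ : N) = r := by rw [Subgroup.orderOf_mk, hxr]
    rw [← h2]
    exact orderOf_dvd_natCard _
  obtain ⟨t, u, Q, v, ρ, D⟩ := KFacts.J2.Facts.exists_dat_of (isoN h hT)
  rw [J2Type.Order.card_of_fus D.F] at h1
  have h3 : r ∈ Nat.primeFactors 604800 := Nat.mem_primeFactors.2 ⟨hr, h1, by norm_num⟩
  have h4 : Nat.primeFactors 604800 = {2, 3, 5, 7} := by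
    have e1 : (604800 : ℕ) = 2 ^ 7 * (3 ^ 3 * (5 ^ 2 * 7)) := by norm_num
    rw [e1, Nat.primeFactors_mul (by norm_num) (by norm_num), Nat.primeFactors_mul (by norm_num) (by norm_num),
      Nat.primeFactors_mul (by norm_num) (by norm_num), Nat.primeFactors_prime_pow (by norm_num) Nat.prime_two,
      Nat.primeFactors_prime_pow (by norm_num) Nat.prime_three, Nat.primeFactors_prime_pow (by norm_num) Nat.prime_five,
      Nat.Prime.primeFactors (by norm_num)]
    rfl
  rw [h4] at h3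
  simp only [Finset.mem_insert, Finset.mem_singleton] at h3 ⊢
  tauto

/-- **The `T`-side of `J₂`.** -/
theorem j2_card {z : ℕ → ℕ}
    (hz : ∀ x : G, orderOf x ∈ ({3, 5, 7} : Finset ℕ) → Nat.card (centralizer ({x} : Set G)) ≤ z (orderOf x)) :
    Nat.card G ≤ 1209600 + (150684800 * z 3 + 585252864 * z 5 + 1244160000 * z 7) := by
  obtain ⟨t, u, Q, v, ρ, D⟩ := KFacts.J2.Facts.exists_dat_of (isoN h hT)
  set Nn : ℕ → ℕ := fun r => if r = 3 then 17360 else if r = 5 then 48384 else 86400 with hNn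
  have hN : ∀ r ∈ ({3, 5, 7} : Finset ℕ), {x : G | x ∈ H ∧ orderOf x = r}.ncard ≤ Nn r := by
    intro r hr
    simp only [Finset.mem_insert, Finset.mem_singleton] at hr
    rcases hr with rfl | rfl | rfl
    · exact ncard_H h hT (by decide) (ncard_three D.F)
    · exact ncard_H h hT (by decide) (ncard_five D.F)
    · exact ncard_H h hT (by decide) (ncard_seven D.F)
  have h1 := EPi_order (H := H) (π := {3, 5, 7}) (by
      intro r hr
      simp only [Finset.mem_insert, Finset.mem_singleton] at hr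
      rcases hr with rfl | rfl | rfl <;> norm_num) (hM_j2 h hT) Nn Nn z hN
    (fun x hx hxr => (Sec_le x).trans (hN _ hxr)) (fun x _ hxr => hz x hxr)
  have h2 : (Nat.card H : ℚ) ≤ 1209600 := by exact_mod_cast card_H_le h hT
  rw [Finset.sum_insert (by decide), Finset.sum_insert (by decide), Finset.sum_singleton] at h1
  have e3 : Nn 3 = 17360 := rfl
  have e5 : Nn 5 = 48384 := rfl
  have e7 : Nn 7 = 86400 := rfl
  rw [e3, e5, e7] at h1
  have h3 : (Nat.card G : ℚ) ≤ 1209600 + (150684800 * z 3 + 585252864 * z 5 + 1244160000 * z 7) := by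
    refine h1.trans ?_
    push_cast
    have a3 : (17360 : ℚ) * (17360 * z 3) / (3 - 1) = 150684800 * z 3 := by ring
    have a5 : (48384 : ℚ) * (48384 * z 5) / (5 - 1) = 585252864 * z 5 := by ring
    have a7 : (86400 : ℚ) * (86400 * z 7) / (7 - 1) = 1244160000 * z 7 := by ring
    rw [a3, a5, a7]
    linarith
  exact_mod_cast h3

/-- **No `J₂`**, `|C_G(x)| ≤ 2 ^ 25` for `x` of order 3, 5, 7 -/
theorem j2_false (hc : ∀ x : G, orderOf x ∈ ({3, 5, 7} : Finset ℕ) → Nat.card (centralizer ({x} : Set G)) ≤ 2 ^ 25)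
    (hG : 66450000000000000 < Nat.card G) : False := by
  have h1 := j2_card h hT (z := fun _ => 2 ^ 25) hc
  norm_num at h1
  omega

end EPS

end Cfsg.Agent.H424.EPX
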