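import Cfsg.Agent.H424.EPX.Sys
import Cfsg.Agent.H470.EPO.OwnT
import Cfsg.Agent.H737.EPO.RelOne
import Cfsg.Agent.KFacts.TwF4.OutTwo

/-!
# Own characteristic, socle `²F₄(q) ^ k` (helper424, for S5745)

* `rk_psys` : `Rk`, from `desc`;
* `relIndex_psys` : `|U : V_j| ≠ 2`;
* `own_full` : `EPS H N e`, `N ≅ G ^ k`, `S : Full σ G`, is impossible in characteristic 2.
-/

set_option autoImplicit false
set_option linter.unusedSectionVars false

namespace Cfsg.Agent.H424.EPX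

open Cfsg.Agent.KFacts.TwF4 Cfsg.Agent.KFacts.TwF4.Full Cfsg.Agent.KFacts.TwF4.Arc
open Cfsg.Agent.KFacts.TwF4.Inv Cfsg.Agent.KFacts.TwF4.SylU
open Cfsg.Agent.SplitTwo Cfsg.Agent.SplitTwo.ZS Cfsg.Agent.TitsThree.RankTwoZ
open Cfsg.Agent.SplitTwo.RootSysZ Subgroup Cfsg Cfsg.Agent.H248.TwF4Over
open Cfsg.Agent.H284 Cfsg.Agent.H737.EPO Cfsg.Agent.H470.EPO Cfsg.Agent.H209.EPX
open Cfsg.Agent.KFacts.RgdFilt

universe u

variable {F : Type*} [Field F] {σ : F →+* F} {G : Type u} [Group G] (S : Full σ G)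

/-- the first reflection of an element outside `B` -/
def Desc : Prop := ∀ g : G, g ∉ J S.XZ 1 8 ⊔ S.T →
  (∀ u ∈ J S.XZ 1 8, g⁻¹ * u * g ∈ J S.XZ 1 8 ⊔ S.T → u ∈ J S.XZ 2 8) ∨
  (∀ u ∈ J S.XZ 1 8, g⁻¹ * u * g ∈ J S.XZ 1 8 ⊔ S.T → u ∈ J S.XZ 1 7)

section sys

variable [Finite F] [Finite G] (hF : ∃ c : Fˣ, c ≠ 1) (hR : S.R.p = 2)

include hF hR

/-- a 2-element of `B` lies in `U` -/
theorem mem_U_of {x : G} (hx : x ∈ Pp S none) {n : ℕ} (h2 : x ^ 2 ^ n = 1) : x ∈ J S.XZ 1 8 := by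
  have hfact : Fact (Nat.Prime 2) := ⟨Nat.prime_two⟩
  have h1 : IsPGroup 2 (Subgroup.zpowers x) := by
    rintro ⟨y, hy⟩
    obtain ⟨m, rfl⟩ := Subgroup.mem_zpowers_iff.1 hy
    refine ⟨n, Subtype.ext ?_⟩
    show (x ^ m) ^ 2 ^ n = 1
    rw [← zpow_natCast, ← zpow_mul, mul_comm, zpow_mul, zpow_natCast, h2, one_zpow]
  have h3 : Subgroup.zpowers x ≤ normalizer (J S.XZ 1 8 : Set G) := by
    rw [Subgroup.zpowers_le, norm_U' S hF hR]
    exact hx
  have h4 : IsPGroup 2 (J S.XZ 1 8 ⊔ Subgroup.zpowers x : Subgroup G) := by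
    rw [sup_comm]
    exact h1.to_sup_of_normal_right' (U_two S hF hR) h3
  have h5 := U_max' S hF hR le_sup_left h4
  rw [← h5]
  exact (le_sup_right : Subgroup.zpowers x ≤ _) (Subgroup.mem_zpowers x)

theorem conj_mem_U {u g : G} (hu : u ∈ J S.XZ 1 8) (h : g⁻¹ * u * g ∈ Pp S none) : g⁻¹ * u * g ∈ J S.XZ 1 8 := by
  obtain ⟨n, hn⟩ := U_two S hF hR ⟨u, hu⟩
  have h1 : u ^ 2 ^ n = 1 := congrArg Subtype.val hn
  refine mem_U_of S hF hR h (n := n) ?_
  have e : g⁻¹ * u * g = g⁻¹ * u * g⁻¹⁻¹ := by rw [inv_inv]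
  rw [e, conj_pow, h1]
  group

theorem desc_true {g : G} (hg : g ∈ Pp S (some true)) (hgB : g ∉ Pp S none) {u : G} (hu : u ∈ J S.XZ 1 8)
    (h : g⁻¹ * u * g ∈ Pp S none) : u ∈ J S.XZ 2 8 := by
  obtain ⟨v, hv, b, hb, rfl⟩ := form_true S hg hgB
  have h1 : S.n1⁻¹ * (v⁻¹ * u * v) * S.n1 ∈ Pp S none := by
    have e : S.n1⁻¹ * (v⁻¹ * u * v) * S.n1 = b * ((v * S.n1 * b)⁻¹ * u * (v * S.n1 * b)) * b⁻¹ := by group
    rw [e]
    exact mul_mem (mul_mem hb h) (inv_mem hb)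
  have h2 : v⁻¹ * u * v ∈ J S.XZ 1 8 := mul_mem (mul_mem (inv_mem hv) hu) hv
  have h3 := conj_mem_U S hF hR h2 h1
  rw [n1_inv'] at h3
  have h4 := H371.PU.J28_of_n1 S h2 (by rw [n1_inv']; exact h3)
  have h5 := conj_Vv S (some true) hv h4
  have e : v * (v⁻¹ * u * v) * v⁻¹ = u := by group
  rwa [e] at h5

theorem desc_false {g : G} (hg : g ∈ Pp S (some false)) (hgB : g ∉ Pp S none) {u : G} (hu : u ∈ J S.XZ 1 8)
    (h : g⁻¹ * u * g ∈ Pp S none) : u ∈ J S.XZ 1 7 := by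
  obtain ⟨v, hv, b, hb, rfl⟩ := form_false S hg hgB
  have h1 : S.n2⁻¹ * (v⁻¹ * u * v) * S.n2 ∈ Pp S none := by
    have e : S.n2⁻¹ * (v⁻¹ * u * v) * S.n2 = b * ((v * S.n2 * b)⁻¹ * u * (v * S.n2 * b)) * b⁻¹ := by group
    rw [e]
    exact mul_mem (mul_mem hb h) (inv_mem hb)
  have h2 : v⁻¹ * u * v ∈ J S.XZ 1 8 := mul_mem (mul_mem (inv_mem hv) hu) hv
  have h3 := conj_mem_U S hF hR h2 h1
  rw [n2_inv'] at h3
  have h4 := H371.PU.J17_of_n2 S h2 (by rw [n2_inv']; exact h3)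
  have h5 := conj_Vv S (some false) hv h4
  have e : v * (v⁻¹ * u * v) * v⁻¹ = u := by group
  rwa [e] at h5

omit hF hR in
theorem trans_b {b : Bool} {x y : G} (hx : x ∈ Pp S (some b)) (hxB : x ∉ Pp S none) (hy : y ∈ Pp S (some b))
    (hyB : y ∉ Pp S none) : ∃ u ∈ J S.XZ 1 8, y⁻¹ * u * x ∈ Pp S none := by
  have key : ∀ (n : G), (∃ u ∈ J S.XZ 1 8, ∃ b ∈ Pp S none, x = u * n * b) →
      (∃ u ∈ J S.XZ 1 8, ∃ b ∈ Pp S none, y = u * n * b) → ∃ u ∈ J S.XZ 1 8, y⁻¹ * u * x ∈ Pp S none := by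
    rintro n ⟨u, hu, b, hb, rfl⟩ ⟨u', hu', b', hb', rfl⟩
    refine ⟨u' * u⁻¹, mul_mem hu' (inv_mem hu), ?_⟩
    have e : (u' * n * b')⁻¹ * (u' * u⁻¹) * (u * n * b) = b'⁻¹ * b := by group
    rw [e]
    exact mul_mem (inv_mem hb') hb
  cases b with
  | true => exact key S.n1 (form_true S hx hxB) (form_true S hy hyB)
  | false => exact key S.n2 (form_false S hx hxB) (form_false S hy hyB)

omit hF hR in
theorem X1_not {x : G} (hx : x ∈ S.R.X 1) (h : x ∈ J S.XZ 2 8) : x = 1 := by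
  have := S.zsys8.inter 1 x (by exact_mod_cast hx) (by exact_mod_cast h)
  exact this

omit hF hR in
theorem X8_not {x : G} (hx : x ∈ S.R.X 8) (h : x ∈ J S.XZ 1 7) : x = 1 := by
  have hx' : x ∈ S.XZ 8 := by
    show x ∈ S.R.X ((8 : ℤ) : ZMod (2 * 8))
    exact_mod_cast hx
  have h1 : S.n2 * x * S.n2⁻¹ ∈ S.XZ 0 := S.n2_refl.mem' hx' (by norm_num)
  have h2 : S.n2 * x * S.n2⁻¹ ∈ J S.XZ 1 7 := S.n2_refl.mem_J h (by norm_num) (by norm_num)
  have h3 := S.zsys8.inter 0 _ h1 (J_mono (by norm_num) (by norm_num) h2)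
  have e : x = S.n2⁻¹ * (S.n2 * x * S.n2⁻¹) * S.n2 := by group
  rw [e, h3]
  group

theorem Vv_ne (b : Bool) : Vv S (some b) ≠ Vv S none := by
  intro h
  cases b with
  | true =>
    obtain ⟨x, hx, hx1⟩ := exists_ne S 1
    apply hx1
    apply X1_not S hx
    have : x ∈ Vv S none := X_le_U S (i := 1) (by decide) (by decide) hx
    rwa [← h] at this
  | false =>
    obtain ⟨x, hx, hx1⟩ := exists_ne S 8
    apply hx1
    apply X8_not S hx
    have : x ∈ Vv S none := X_le_U S (i := 8) (by decide) (by decide) hx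
    rwa [← h] at this

/-- **`Rk`** -/
theorem rk_psys (hD : Desc S) : Rk (psys S hF hR) where
  desc {J' g} hg hgB := by
    have hgB' : g ∉ Pp S none := by
      have e : PT S (∅ : Set Bool) = Pp S none := PT_st S none
      rw [psys_P, e] at hgB
      exact hgB
    have key : ∀ b : Bool, (∀ u ∈ J S.XZ 1 8, g⁻¹ * u * g ∈ Pp S none → u ∈ Vv S (some b)) →
        ∀ u ∈ (psys S hF hR).V ∅, g⁻¹ * u * g ∈ (psys S hF hR).P ∅ → u ∈ (psys S hF hR).V {b} := by
      intro b h u hu h1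
      have e1 : VT S (∅ : Set Bool) = J S.XZ 1 8 := VT_st S none
      have e2 : PT S (∅ : Set Bool) = Pp S none := PT_st S none
      have e3 : VT S ({b} : Set Bool) = Vv S (some b) := VT_st S (some b)
      rw [psys_V, e1] at hu
      rw [psys_P, e2] at h1
      rw [psys_V, e3]
      exact h u hu h1
    rcases cases_set J' with rfl | ⟨_ | _ | _, rfl⟩
    · rcases hD g hgB' with h | h
      · exact ⟨true, Set.mem_univ _, key true h⟩
      · exact ⟨false, Set.mem_univ _, key false h⟩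
    · exfalso
      rw [psys_P, PT_st] at hg
      exact hgB' hg
    · rw [psys_P, PT_st] at hg
      exact ⟨false, rfl, key false fun u hu h => desc_false S hF hR hg hgB' hu h⟩
    · rw [psys_P, PT_st] at hg
      exact ⟨true, rfl, key true fun u hu h => desc_true S hF hR hg hgB' hu h⟩
  trans {j x y} hx hxB hy hyB := by
    have e1 : VT S (∅ : Set Bool) = J S.XZ 1 8 := VT_st S none
    have e2 : PT S (∅ : Set Bool) = Pp S none := PT_st S none
    have e3 : PT S ({j} : Set Bool) = Pp S (some j) := PT_st S (some j)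
    rw [psys_P, e3] at hx hy
    rw [psys_P, e2] at hxB hyB
    obtain ⟨u, hu, h⟩ := trans_b S hx hxB hy hyB
    refine ⟨u, ?_, ?_⟩
    · rw [psys_V, e1]; exact hu
    · rw [psys_P, e2]; exact h
  ne j := by
    have e1 : VT S (∅ : Set Bool) = Vv S none := VT_st S none
    have e3 : VT S ({j} : Set Bool) = Vv S (some j) := VT_st S (some j)
    rw [psys_V, psys_V, e1, e3]
    exact Vv_ne S hF hR j

omit hF hR in
/-- two nontrivial elements of a root group have a nontrivial quotient outside `V` -/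
theorem index_ne {V U : Subgroup G} {x y : G} (hx : x ∈ U) (hy : y ∈ U) (hxV : x ∉ V) (hyV : y ∉ V) (hxy : x * y ∉ V) :
    V.relIndex U ≠ 2 := by
  intro h
  have h1 := Subgroup.mul_mem_iff_of_index_two (H := V.subgroupOf U) h (a := ⟨x, hx⟩) (b := ⟨y, hy⟩)
  rw [Subgroup.mem_subgroupOf, Subgroup.mem_subgroupOf, Subgroup.mem_subgroupOf] at h1
  have h2 : x * y ∈ V := h1.2 (iff_of_false hxV hyV)
  exact hxy h2

theorem relIndex_psys (b : Bool) : ((psys S hF hR).V {b}).relIndex ((psys S hF hR).V ∅) ≠ 2 := by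
  have e1 : VT S (∅ : Set Bool) = Vv S none := VT_st S none
  have e3 : VT S ({b} : Set Bool) = Vv S (some b) := VT_st S (some b)
  rw [psys_V, psys_V, e1, e3]
  obtain ⟨c, hc⟩ := hF
  have hc1 : (c : F) ≠ 1 := fun h => hc (Units.ext h)
  have h1c : (1 : F) + c ≠ 0 := by
    intro h
    apply hc1
    have h2 : (1 : F) + 1 = 0 := char2 S 1
    have h3 : (1 : F) + c = 1 + 1 := h.trans h2.symm
    exact add_left_cancel h3
  cases b with
  | true =>
    have hX : S.R.X 1 ≤ Vv S none := X_le_U S (i := 1) (by decide) (by decide)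
    have m : ∀ t, S.o 0 t ∈ S.R.X 1 := fun t => by
      have := S.mX1 t
      exact_mod_cast this
    have hne : ∀ t, t ≠ 0 → S.o 0 t ∉ Vv S (some true) := fun t ht h => ht (S.o_eq_one (X1_not S (m t) h))
    refine index_ne (hX (m 1)) (hX (m c)) (hne _ one_ne_zero) (hne _ c.ne_zero) ?_
    rw [S.o_add]
    exact hne _ h1c
  | false =>
    have hX : S.R.X 8 ≤ Vv S none := X_le_U S (i := 8) (by decide) (by decide)
    have m : ∀ t, S.e 4 0 t ∈ S.R.X 8 := fun t => by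
      have := S.mX8 0 t
      exact_mod_cast this
    have hne : ∀ t, t ≠ 0 → S.e 4 0 t ∉ Vv S (some false) := fun t ht h => ht (S.e_eq_one (X8_not S (m t) h)).2
    refine index_ne (hX (m 1)) (hX (m c)) (hne _ one_ne_zero) (hne _ c.ne_zero) ?_
    rw [S.e_mul, zero_mul, add_zero, add_zero]
    exact hne _ h1c

end sys

/-- **own characteristic, socle `Y ^ k` with `S : Full σ Y`** -/
theorem own_full {F : Type*} [Field F] [Finite F] {σ : F →+* F} {T : Type} [Group T] [Finite T] (S : Full σ T)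
    (hF : ∃ c : Fˣ, c ≠ 1) (hR : S.R.p = 2) (hD : Desc S) {G : Type*} [Group G] [Finite G] {H N : Subgroup G}
    {k : ℕ} {e : N ≃* (Fin k → T)} (h : EPS H N e) {Y : Type*} [Group Y] [Finite Y] [IsSimpleGroup Y]
    (hY : HasFilt 2 Y) (hYn : ∃ a b : Y, a * b ≠ b * a) {j : Y →* G} (hj : Function.Injective j)
    (hn : j.range.Normal) (hNj : N ≤ j.range) : False := by
  have hfact : Fact (Nat.Prime 2) := ⟨Nat.prime_two⟩
  have := h.simple
  obtain ⟨P, -, hP⟩ := exists_sylIn (p := 2) (H := H) (K := ⊥) bot_le IsPGroup.of_bot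
  obtain ⟨e', hPN⟩ := exists_std (psys S hF hR) e h.nrm h.le hP
  obtain ⟨-, i, h2⟩ := own_R e' h.nab (rk_psys S hF hR hD) h.ep h.toMinN h.pos hP hPN
    (fun J hJ => dq_of h hY hYn hj hn hNj _ e' J hJ)
  exact relIndex_psys S hF hR i h2

end Cfsg.Agent.H424.EPX
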