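import Cfsg.Agent.H424.EPX.Desc

/-!
# S5745, own characteristic: no socle `²F₄(q) ^ k` (helper424)

`own_TF4` : `G` simple with a filtered root group datum in characteristic 2, `EPS H N e`, `N ≅ T ^ k`, `T ≅ ²F₄(q)`: impossible.
-/

set_option autoImplicit false
set_option linter.unusedSectionVars false

namespace Cfsg.Agent.H424.EPX

open Cfsg.Agent.KFacts.TwF4 Cfsg.Agent.H284 Cfsg.Agent.H209.EPX Cfsg.Agent.KFacts.RgdFilt Subgroup

/-- the same with other coordinates of `N` -/
theorem eps_congr {G : Type*} [Group G] {H N : Subgroup G} {T : Type} [Group T] {k : ℕ} {e : N ≃* (Fin k → T)}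
    (h : EPS H N e) {L : Type} [Group L] (f : T ≃* L) : EPS H N (e.trans (MulEquiv.piCongrRight fun _ : Fin k => f)) where
  toMinN := h.toMinN
  ep := h.ep
  pos := h.pos
  simple := by
    have := h.simple
    exact f.symm.isSimpleGroup
  nab := by
    obtain ⟨a, b, hab⟩ := h.nab
    refine ⟨f a, f b, fun h1 => hab ?_⟩
    rw [← map_mul, ← map_mul] at h1
    exact f.injective h1
  cent := h.cent
  least := h.least

/-- **own characteristic, socle `²F₄(q) ^ k`**, general form -/
theorem own_TF4' {G : Type*} [Group G] [Finite G] {H N : Subgroup G} {T : Type} [Group T] {k : ℕ}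
    {e : N ≃* (Fin k → T)} (h : EPS H N e) (hT : Cfsg.Lie.Iso2F4 T) {Y : Type*} [Group Y] [Finite Y] [IsSimpleGroup Y]
    (hY : HasFilt 2 Y) (hYn : ∃ a b : Y, a * b ≠ b * a) {j : Y →* G} (hj : Function.Injective j)
    (hn : j.range.Normal) (hNj : N ≤ j.range) : False := by
  obtain ⟨F, i1, i2, m, φ, S, -, hcard, ⟨f⟩, hR, hfin, hF⟩ := Cfsg.Agent.H187.exists_full hT
  exact own_full S hF hR (desc S hF hR) (eps_congr h f) hY hYn hj hn hNj

/-- **own characteristic, socle `²F₄(q) ^ k`** -/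
theorem own_TF4 {G : Type} [Group G] [Finite G] [IsSimpleGroup G] (hG : HasFilt 2 G) (H N : Subgroup G) (T : Type)
    [Group T] (k : ℕ) (e : N ≃* (Fin k → T)) (h : EPS H N e) (hT : Cfsg.Lie.Iso2F4 T) : False := by
  obtain ⟨a, b, hab⟩ := h.nab
  have hinj : Function.Injective (fun x : N => (x : G)) := Subtype.val_injective
  refine own_TF4' h hT (Y := G) hG ?_ (j := MonoidHom.id G) (fun x y h => h) ?_ ?_
  · have hk : Nonempty (Fin k) := ⟨⟨0, h.pos⟩⟩
    refine ⟨e.symm fun _ => a, e.symm fun _ => b, fun h1 => hab ?_⟩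
    have h2 : e.symm (fun _ => a) * e.symm (fun _ => b) = e.symm (fun _ => b) * e.symm (fun _ => a) := Subtype.ext h1
    rw [← map_mul, ← map_mul] at h2
    exact congrFun (e.symm.injective h2) ⟨0, h.pos⟩
  · have e1 : (MonoidHom.id G).range = ⊤ := MonoidHom.range_eq_top.2 fun x => ⟨x, rfl⟩
    rw [e1]
    infer_instance
  · intro x _
    exact ⟨x, rfl⟩

end Cfsg.Agent.H424.EPX
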